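import Mathlib.MeasureTheory.Constructions.Pi
import Mathlib.MeasureTheory.Group.Integral
import Mathlib.MeasureTheory.Integral.Prod
import Mathlib.MeasureTheory.Integral.Bochner.Set
import Mathlib.MeasureTheory.Measure.Haar.Basic
import Mathlib.Topology.ContinuousMap.Compact
import Mathlib.MeasureTheory.Function.StronglyMeasurable.Basic
import Mathlib.Data.Fin.Tuple.Basic

/-! Cocycles in several variables on a compact group are deviations. -/

noncomputable section

set_option linter.unusedSectionVars false

universe u v

open MeasureTheory Filter Topology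

namespace Groth.Agent.ZH85.Cocycle

/-- Continuous real functions are measurable. -/
def Meas (Y : Type v) [TopologicalSpace Y] [MeasurableSpace Y] : Prop :=
  ∀ f : Y → ℝ, Continuous f → Measurable f

section

variable {X : Type u} [TopologicalSpace X] [CompactSpace X] [MeasurableSpace X] [BorelSpace X]
  {Y : Type v} [TopologicalSpace Y] [CompactSpace Y] [MeasurableSpace Y]

theorem measurable_prod (hY : Meas Y) {f : X × Y → ℝ} (hf : Continuous f) : Measurable f := by
  borelize C(Y, ℝ)
  let F : C(X, C(Y, ℝ)) := (⟨f, hf⟩ : C(X × Y, ℝ)).curry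
  have hsep : TopologicalSpace.IsSeparable (Set.range F) := (isCompact_range F.continuous).isSeparable
  have hF : StronglyMeasurable F :=
    stronglyMeasurable_iff_measurable_separable.2 ⟨F.continuous.measurable, hsep⟩
  refine measurable_of_tendsto_metrizable (f := fun n (p : X × Y) => hF.approx n p.1 p.2) (fun n => ?_) ?_
  · exact ((hF.approx n).comp Prod.fst measurable_fst).measurable_bind (fun b p => b p.2)
      fun b => (hY b b.continuous).comp measurable_snd
  · rw [tendsto_pi_nhds]
    intro p
    exact ((continuous_eval_const p.2).tendsto _).comp (hF.tendsto_approx p.1)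

theorem integrable_of_meas (hY : Meas Y) (ν : Measure Y) [IsFiniteMeasure ν] {f : Y → ℝ} (hf : Continuous f) :
    Integrable f ν := by
  obtain ⟨C, hC⟩ := isCompact_univ.exists_bound_of_continuousOn hf.continuousOn
  exact Integrable.of_bound (hY f hf).aestronglyMeasurable C (Eventually.of_forall fun y => hC y trivial)

theorem continuous_integral {Z : Type*} [TopologicalSpace Z] (hY : Meas Y) (ν : Measure Y) [IsFiniteMeasure ν]
    {f : Z → Y → ℝ} (hf : Continuous (Function.uncurry f)) : Continuous fun z => ∫ y, f z y ∂ν := by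
  let J : C(Y, ℝ) → ℝ := fun g => ∫ y, g y ∂ν
  have hJ : LipschitzWith ⟨ν.real Set.univ, measureReal_nonneg⟩ J := by
    refine LipschitzWith.of_dist_le_mul fun g h => ?_
    rw [dist_eq_norm, Real.norm_eq_abs]
    show |(∫ y, g y ∂ν) - ∫ y, h y ∂ν| ≤ _
    rw [← integral_sub (integrable_of_meas hY ν g.continuous) (integrable_of_meas hY ν h.continuous), ← Real.norm_eq_abs]
    refine (norm_integral_le_of_norm_le_const (C := dist g h) (Eventually.of_forall fun y => ?_)).trans_eq (mul_comm _ _)
    rw [← dist_eq_norm]
    exact ContinuousMap.dist_apply_le_dist y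
  exact hJ.continuous.comp (⟨Function.uncurry f, hf⟩ : C(Z × Y, ℝ)).curry.continuous

end

variable {G : Type u} [AddCommGroup G] [TopologicalSpace G] [IsTopologicalAddGroup G] [CompactSpace G]
  [MeasurableSpace G] [BorelSpace G] (μ : Measure G) [μ.IsAddHaarMeasure] [IsProbabilityMeasure μ]

theorem meas_self : Meas G := fun _ hf => hf.measurable

theorem cont_cons (n : ℕ) : Continuous fun p : G × (Fin n → G) => (Fin.cons p.1 p.2 : Fin (n + 1) → G) := by
  refine continuous_pi fun i => ?_
  refine Fin.cases ?_ (fun j => ?_) i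
  · simp only [Fin.cons_zero]; exact continuous_fst
  · simp only [Fin.cons_succ]; exact (continuous_apply j).comp continuous_snd

theorem meas_pi : ∀ n : ℕ, Meas (Fin n → G)
  | 0 => fun f _ => Subsingleton.measurable
  | n + 1 => fun f hf => by
    have h : Measurable fun p : G × (Fin n → G) => f (Fin.cons p.1 p.2) :=
      measurable_prod (meas_pi n) (hf.comp (cont_cons _))
    have h2 := h.comp (MeasurableEquiv.piFinSuccAbove (fun _ : Fin (n + 1) => G) 0).measurable
    convert h2 using 1
    funext x
    show f x = f (Fin.cons (x 0) (Fin.tail x))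
    rw [Fin.cons_self_tail]

theorem integral_pi_zero (f : (Fin 0 → G) → ℝ) :
    ∫ u, f u ∂(Measure.pi fun _ : Fin 0 => μ) = f Fin.elim0 := by
  rw [show f = fun _ => f Fin.elim0 from funext fun u => congrArg f (Subsingleton.elim _ _), integral_const]
  simp

/-- Fubini for the first coordinate. -/
theorem integral_pi_succ {n : ℕ} {f : (Fin (n + 1) → G) → ℝ} (hf : Continuous f) :
    ∫ u, f u ∂(Measure.pi fun _ : Fin (n + 1) => μ) =
      ∫ c, ∫ v, f (Fin.cons c v) ∂(Measure.pi fun _ : Fin n => μ) ∂μ := by
  have hmp := measurePreserving_piFinSuccAbove (fun _ : Fin (n + 1) => μ) 0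
  have hcont : Continuous fun p : G × (Fin n → G) => f (Fin.cons p.1 p.2) :=
    hf.comp (cont_cons _)
  have hint : Integrable (fun p : G × (Fin n → G) => f (Fin.cons p.1 p.2))
      (μ.prod (Measure.pi fun _ : Fin n => μ)) := by
    obtain ⟨C, hC⟩ := isCompact_univ.exists_bound_of_continuousOn hcont.continuousOn
    exact Integrable.of_bound (measurable_prod (meas_pi n) hcont).aestronglyMeasurable C
      (Eventually.of_forall fun y => hC y trivial)
  rw [← integral_prod _ hint]
  refine Eq.trans ?_ (hmp.integral_comp' (fun p : G × (Fin n → G) => f (Fin.cons p.1 p.2)))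
  refine integral_congr_ae (Eventually.of_forall fun x => ?_)
  show f x = f (Fin.cons (x 0) (Fin.tail x))
  rw [Fin.cons_self_tail]

theorem continuous_integral_pi {Z : Type*} [TopologicalSpace Z] {n : ℕ} {f : Z → (Fin n → G) → ℝ}
    (hf : Continuous (Function.uncurry f)) :
    Continuous fun z => ∫ y, f z y ∂(Measure.pi fun _ : Fin n => μ) :=
  continuous_integral (meas_pi n) _ hf

/-- Alternating sum over all subsets. -/
def S {n : ℕ} (F : G → ℝ) (x : Fin n → G) : ℝ :=
  ∑ I ∈ (Finset.univ : Finset (Fin n)).powerset, (-1 : ℝ) ^ I.card * F (∑ i ∈ I, x i)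

theorem S_zero (F : G → ℝ) (x : Fin 0 → G) : S F x = F 0 := by simp [S]

theorem S_cons {n : ℕ} (F : G → ℝ) (a : G) (x : Fin n → G) :
    S F (Fin.cons a x : Fin (n + 1) → G) = S F x - S (fun g => F (a + g)) x := by
  classical
  have h0 : (0 : Fin (n + 1)) ∉ (Finset.univ : Finset (Fin n)).image Fin.succ := by simp [Fin.succ_ne_zero]
  have huniv : (Finset.univ : Finset (Fin (n + 1))) = insert 0 ((Finset.univ : Finset (Fin n)).image Fin.succ) := by
    ext i
    refine Fin.cases ?_ (fun j => ?_) i <;> simp
  unfold S
  have hinj : ∀ I : Finset (Fin n), (I.image Fin.succ).card = I.card := fun I =>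
    Finset.card_image_of_injective _ (Fin.succ_injective n)
  have hsum : ∀ I : Finset (Fin n), ∑ i ∈ I.image Fin.succ, (Fin.cons a x : Fin (n + 1) → G) i = ∑ i ∈ I, x i := fun I => by
    rw [Finset.sum_image fun _ _ _ _ h => Fin.succ_injective n h]
    simp
  rw [huniv, Finset.sum_powerset_insert h0, Finset.powerset_image,
    Finset.sum_image fun _ _ _ _ h => Finset.image_injective (Fin.succ_injective n) h,
    Finset.sum_image fun _ _ _ _ h => Finset.image_injective (Fin.succ_injective n) h, sub_eq_add_neg,
    ← Finset.sum_neg_distrib]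
  congr 1
  · exact Finset.sum_congr rfl fun I _ => by rw [hinj, hsum]
  · refine Finset.sum_congr rfl fun I _ => ?_
    have hI : (0 : Fin (n + 1)) ∉ I.image Fin.succ := by simp [Fin.succ_ne_zero]
    rw [Finset.card_insert_of_notMem hI, Finset.sum_insert hI, hinj, hsum, Fin.cons_zero, pow_succ]
    ring

theorem deviation_eq_S {n : ℕ} (F : G → ℝ) (x : Fin n → G) :
    ∑ I ∈ ((Finset.univ : Finset (Fin n)).powerset.erase ∅), (-1 : ℝ) ^ (n + I.card) * F (∑ i ∈ I, x i) =
      (-1) ^ n * (S F x - F 0) := by
  classical
  rw [S, ← Finset.add_sum_erase _ _ (Finset.empty_mem_powerset _), Finset.card_empty, pow_zero, one_mul,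
    Finset.sum_empty, add_sub_cancel_left, Finset.mul_sum]
  exact Finset.sum_congr rfl fun I _ => by rw [pow_add, mul_assoc]

theorem continuous_S {n : ℕ} {F : G → ℝ} (hF : Continuous F) : Continuous fun x : Fin n → G => S F x := by
  unfold S
  fun_prop

theorem integral_translate (F : G → ℝ) (b : G) : ∫ c, F (b + c) ∂μ = ∫ c, F c ∂μ :=
  integral_add_left_eq_self F b

theorem integral_S : ∀ (n : ℕ) {F : G → ℝ}, Continuous F →
    ∫ u, S F u ∂(Measure.pi fun _ : Fin (n + 1) => μ) = F 0 - ∫ c, F c ∂μ
  | 0, F, hF => by
    rw [integral_pi_succ μ (continuous_S hF)]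
    simp only [integral_pi_zero, S_cons, S_zero, add_zero]
    rw [integral_sub (integrable_const _) (integrable_of_meas meas_self μ hF), integral_const]
    simp
  | n + 1, F, hF => by
    rw [integral_pi_succ μ (continuous_S hF)]
    have key : ∀ c : G, ∫ v, S F (Fin.cons c v : Fin (n + 1 + 1) → G) ∂(Measure.pi fun _ : Fin (n + 1) => μ) =
        F 0 - F c := fun c => by
      have hFc : Continuous fun g => F (c + g) := hF.comp (continuous_const.add continuous_id)
      simp only [S_cons]
      rw [integral_sub (integrable_of_meas (meas_pi _) _ (continuous_S hF))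
        (integrable_of_meas (meas_pi _) _ (continuous_S hFc)), integral_S n hF, integral_S n hFc,
        integral_translate, add_zero]
      ring
    simp only [key]
    rw [integral_sub (integrable_const _) (integrable_of_meas meas_self μ hF), integral_const]
    simp

/-- The cocycle identity in all pairs of variables. -/
def IsCocycle {n : ℕ} (ψ : (Fin n → G) → ℝ) : Prop :=
  ∀ (i j : Fin n), i ≠ j → ∀ (x : Fin n → G) (a b c : G),
      ψ (Function.update (Function.update x i (a + b)) j c) + ψ (Function.update (Function.update x i a) j b) =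
        ψ (Function.update (Function.update x i a) j (b + c)) + ψ (Function.update (Function.update x i b) j c)

theorem eq_deviation : ∀ (m : ℕ) (ψ : (Fin (m + 1) → G) → ℝ), Continuous ψ → IsCocycle ψ →
    ∀ x : Fin (m + 1) → G, ψ x = (-1) ^ (m + 1) *
      (S (fun g => (-1 : ℝ) ^ m * ∫ u, ψ (Fin.cons g u) ∂(Measure.pi fun _ : Fin m => μ)) x -
        (-1 : ℝ) ^ m * ∫ u, ψ (Fin.cons 0 u) ∂(Measure.pi fun _ : Fin m => μ))
  | 0, ψ, _, _, x => by
    obtain ⟨a, y, rfl⟩ : ∃ a y, (Fin.cons a y : Fin (0 + 1) → G) = x := ⟨_, _, Fin.cons_self_tail x⟩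
    simp only [S_cons, S_zero, add_zero, integral_pi_zero]
    rw [Subsingleton.elim y Fin.elim0]
    ring
  | m + 1, ψ, hψ, hco, x => by
    let χ : (Fin (m + 1) → G) → ℝ := fun y => ∫ c, ψ (Fin.insertNth 1 c y) ∂μ
    have hins : Continuous fun p : (Fin (m + 1) → G) × G => (Fin.insertNth 1 p.2 p.1 : Fin (m + 2) → G) :=
      by
      refine continuous_pi fun i => ?_
      refine Fin.succAboveCases (1 : Fin (m + 2)) ?_ (fun j => ?_) i
      · simp only [Fin.insertNth_apply_same]; exact continuous_snd
      · simp only [Fin.insertNth_apply_succAbove]; exact (continuous_apply j).comp continuous_fst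
    have hχ : Continuous χ := continuous_integral (f := fun y c => ψ (Fin.insertNth 1 c y)) meas_self μ (hψ.comp hins)
    have hint : ∀ y, Integrable (fun c => ψ (Fin.insertNth 1 c y)) μ := fun y =>
      integrable_of_meas meas_self μ (hψ.comp (hins.comp (Continuous.prodMk continuous_const continuous_id)))
    have hupd : ∀ (y : Fin (m + 1) → G) (c : G) (i : Fin (m + 1)) (a : G),
        (Fin.insertNth 1 c (Function.update y i a) : Fin (m + 2) → G) =
          Function.update (Fin.insertNth 1 c y) ((1 : Fin (m + 2)).succAbove i) a := by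
      intro y c i a
      funext l
      refine Fin.succAboveCases (1 : Fin (m + 2)) ?_ (fun l => ?_) l
      · rw [Fin.insertNth_apply_same, Function.update_of_ne (Fin.succAbove_ne _ _).symm, Fin.insertNth_apply_same]
      · rw [Fin.insertNth_apply_succAbove]
        rcases eq_or_ne l i with rfl | h
        · rw [Function.update_self, Function.update_self]
        · rw [Function.update_of_ne h, Function.update_of_ne (fun e => h (Fin.succAbove_right_injective e)),
            Fin.insertNth_apply_succAbove]
    have hχco : IsCocycle χ := by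
      intro i j hij y a b c
      simp only [χ]
      rw [← integral_add (hint _) (hint _), ← integral_add (hint _) (hint _)]
      refine integral_congr_ae (Eventually.of_forall fun t => ?_)
      simp only [hupd]
      exact hco _ _ (fun e => hij (Fin.succAbove_right_injective e)) _ a b c
    have hins1 : ∀ (a c : G) (z : Fin m → G),
        (Fin.insertNth 1 c (Fin.cons a z : Fin (m + 1) → G) : Fin (m + 2) → G) = Fin.cons a (Fin.cons c z) := by
      intro a c z
      rw [show (1 : Fin (m + 2)) = Fin.succ 0 from rfl, Fin.insertNth_succ_cons, Fin.insertNth_zero']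
    have hφ : ∀ g : G, (-1 : ℝ) ^ (m + 1) * ∫ u, ψ (Fin.cons g u) ∂(Measure.pi fun _ : Fin (m + 1) => μ) =
        -((-1 : ℝ) ^ m * ∫ v, χ (Fin.cons g v) ∂(Measure.pi fun _ : Fin m => μ)) := by
      intro g
      rw [pow_succ, mul_neg_one, neg_mul]
      congr 2
      have hcont : Continuous fun u : Fin (m + 1) → G => ψ (Fin.cons g u) :=
        hψ.comp ((cont_cons _).comp (Continuous.prodMk continuous_const continuous_id))
      rw [integral_pi_succ μ hcont]
      have hcont2 : Continuous fun p : G × (Fin m → G) => ψ (Fin.cons g (Fin.cons p.1 p.2)) :=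
        hcont.comp (cont_cons _)
      obtain ⟨C, hC⟩ := isCompact_univ.exists_bound_of_continuousOn hcont2.continuousOn
      rw [integral_integral_swap]
      · simp only [χ, hins1]
      · exact Integrable.of_bound (measurable_prod (meas_pi m) hcont2).aestronglyMeasurable C
          (Eventually.of_forall fun y => hC y trivial)
    have hS : ∀ (n : ℕ) (F : G → ℝ) (y : Fin n → G), S (fun g => -F g) y = -S F y := fun n F y => by
      simp [S, Finset.sum_neg_distrib]
    simp only [hφ, hS]
    obtain ⟨a, y, rfl⟩ : ∃ a y, (Fin.cons a y : Fin (m + 1 + 1) → G) = x := ⟨_, _, Fin.cons_self_tail x⟩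
    obtain ⟨b, z, rfl⟩ : ∃ b z, (Fin.cons b z : Fin (m + 1) → G) = y := ⟨_, _, Fin.cons_self_tail y⟩
    have hu : ∀ (a' c' : G),
        Function.update (Function.update (Fin.cons a (Fin.cons b z) : Fin (m + 2) → G) 0 a') 1 c' =
          Fin.cons a' (Fin.cons c' z) := by
      intro a' c'
      rw [Fin.update_cons_zero, show (1 : Fin (m + 2)) = Fin.succ 0 from rfl, ← Fin.cons_update,
        Fin.update_cons_zero]
    have h2 : ∀ a' b' c' : G, ψ (Fin.cons (a' + b') (Fin.cons c' z)) + ψ (Fin.cons a' (Fin.cons b' z)) =
        ψ (Fin.cons a' (Fin.cons (b' + c') z)) + ψ (Fin.cons b' (Fin.cons c' z)) := fun a' b' c' => by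
      have := hco 0 1 (by simp) (Fin.cons a (Fin.cons b z)) a' b' c'
      rwa [hu, hu, hu, hu] at this
    have hc0 : ∀ a' : G, Continuous fun c => ψ (Fin.cons a' (Fin.cons c z)) := fun a' =>
      hψ.comp ((cont_cons _).comp (Continuous.prodMk continuous_const ((cont_cons _).comp (Continuous.prodMk continuous_id continuous_const))))
    have key : ψ (Fin.cons a (Fin.cons b z)) = χ (Fin.cons a z) + χ (Fin.cons b z) - χ (Fin.cons (a + b) z) := by
      have h : ∫ c, ψ (Fin.cons (a + b) (Fin.cons c z)) + ψ (Fin.cons a (Fin.cons b z)) ∂μ =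
          ∫ c, ψ (Fin.cons a (Fin.cons (b + c) z)) + ψ (Fin.cons b (Fin.cons c z)) ∂μ :=
        integral_congr_ae (Eventually.of_forall fun c => h2 a b c)
      rw [integral_add (integrable_of_meas meas_self μ (hc0 _)) (integrable_const _),
        integral_add (f := fun c => ψ (Fin.cons a (Fin.cons (b + c) z))) (g := fun c => ψ (Fin.cons b (Fin.cons c z)))
          (integrable_of_meas meas_self μ ((hc0 a).comp (continuous_const.add continuous_id)))
          (integrable_of_meas meas_self μ (hc0 b)),
        integral_translate μ (fun c => ψ (Fin.cons a (Fin.cons c z))) b, integral_const] at h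
      simp only [χ, hins1]
      simp at h
      linarith
    rw [key, eq_deviation m χ hχ hχco, eq_deviation m χ hχ hχco, eq_deviation m χ hχ hχco]
    simp only [S_cons, add_assoc]
    ring

theorem unique (m : ℕ) (hm : 1 ≤ m) {φ : G → ℝ} (hφ : Continuous φ) (g : G) :
    ∫ u, (-1 : ℝ) ^ (m + 1) * (S φ (Fin.cons g u : Fin (m + 1) → G) - φ 0) ∂(Measure.pi fun _ : Fin m => μ) =
      (-1 : ℝ) ^ m * φ g := by
  obtain ⟨n, rfl⟩ : ∃ n, m = n + 1 := ⟨m - 1, by omega⟩
  have hφg : Continuous fun y => φ (g + y) := hφ.comp (continuous_const.add continuous_id)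
  have i1 := integrable_of_meas (meas_pi (n + 1)) (Measure.pi fun _ : Fin (n + 1) => μ) (continuous_S hφ)
  have i2 := integrable_of_meas (meas_pi (n + 1)) (Measure.pi fun _ : Fin (n + 1) => μ) (continuous_S hφg)
  simp only [S_cons]
  rw [integral_const_mul, integral_sub ?_ (integrable_const _), integral_sub i1 i2, integral_S μ n hφ,
    integral_S μ n hφg, integral_translate, integral_const, add_zero]
  · simp
    ring
  · exact i1.sub i2

end Groth.Agent.ZH85.Cocycle
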